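import Cfsg.Agent.Lib.H29.O8M.Glue
import Cfsg.Agent.Lib.H6.U43M.Core

set_option autoImplicit false
set_option maxRecDepth 100000

/-!
# The core counting argument for central extensions of `Ω₈⁺(2)` (helper29)

Two stages, as in helper6's `Lib/H6/U43M/Core.lean`: `⟨a, b⟩` has at most `6048` elements (helper6's stage 1 certificate
for `U₃(3)`, reused verbatim), and it has at most `28800 * |⟨X, W⟩|` cosets (the stage 2 certificate).  The lower bound
`6048 ≤ |⟨σ a, σ b⟩|` comes from the stage 2 certificate applied to the quotient itself (helper12's trick).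
-/

namespace Cfsg.Agent.Lib.H29.O8M

open Subgroup
open scoped commutatorElement
open Cfsg.Agent.Lib.H6.U43M (gl wv map_wv wv_append wv_replicate invW wv_invW)

section count

variable {E G : Type*} [Group E] [Group G]

/-- the counting argument -/
theorem count_main (σ : E →* G) (hs : Function.Surjective σ) (hG : Nat.card G = 174182400)
    (H : Subgroup E) [Finite H] (hH : Nat.card H ≤ 6048) [Finite (E ⧸ H)] (Z : Subgroup E) [Finite Z]
    (hZ : Z ≤ σ.ker) (hq : Nat.card (E ⧸ H) ≤ 28800 * Nat.card Z) :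
    Finite E ∧ σ.ker = Z := by
  have hfin : Finite E := Finite.of_equiv _ (Subgroup.groupEquivQuotientProdSubgroup (s := H)).symm
  refine ⟨hfin, ?_⟩
  have h1 : Nat.card E = Nat.card (E ⧸ H) * Nat.card H :=
    Subgroup.card_eq_card_quotient_mul_card_subgroup H
  have h2 : Nat.card E = Nat.card σ.ker * Nat.card G :=
    Cfsg.Agent.Lib.H28.StemTools.card_eq_card_ker_mul σ hs
  have h3 : Nat.card σ.ker * 174182400 ≤ Nat.card Z * 174182400 := by
    calc Nat.card σ.ker * 174182400 = Nat.card E := by rw [h2, hG]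
      _ = Nat.card (E ⧸ H) * Nat.card H := h1
      _ ≤ (28800 * Nat.card Z) * 6048 := Nat.mul_le_mul hq hH
      _ = Nat.card Z * 174182400 := by ring
  have h4 : Nat.card σ.ker ≤ Nat.card Z := Nat.le_of_mul_le_mul_right h3 (by norm_num)
  symm
  exact Subgroup.eq_of_le_of_card_ge hZ h4

/-- the subgroup generated by the first two of three elements satisfying the stage 2 relators in a group of
order `174182400` has at least `6048` elements -/
theorem card_closure_ge (hG : Nat.card G = 174182400) (am bm cm : G)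
    (hrel : ∀ w ∈ Cert.exactL ++ (Cert.symL ++ Cert.cenL), wv am bm cm w = 1)
    (hgen : closure {am, bm, cm} = ⊤) :
    6048 ≤ Nat.card (closure ({am, bm} : Set G)) := by
  have hfin : Finite G := Nat.finite_of_card_ne_zero (by rw [hG]; norm_num)
  have S : Setting am bm cm (⊥ : Subgroup G) :=
    { central := bot_le
      disj := fun x _ hx => Subgroup.mem_bot.mp hx
      exact := fun w hw => hrel w (List.mem_append_left _ hw)
      rel := fun w hw => by rw [hrel w (List.mem_append_right _ hw)]; exact one_mem _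
      gen := hgen }
  obtain ⟨hx, hy, -, -, -, -, hq⟩ := mono_main S
  have hbot : closure {(wv am bm cm xW)⁻¹, (wv am bm cm yW)⁻¹} = (⊥ : Subgroup G) := by
    rw [eq_bot_iff, closure_le]
    intro g hg
    simp only [Set.mem_insert_iff, Set.mem_singleton_iff] at hg
    rcases hg with rfl | rfl
    · exact hx
    · exact hy
  rw [hbot, Subgroup.card_bot, mul_one] at hq
  have h1 := Subgroup.card_eq_card_quotient_mul_card_subgroup (closure ({am, bm} : Set G))
  rw [hG] at h1
  by_contra hlt
  rw [not_le] at hlt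
  have : Nat.card (G ⧸ closure ({am, bm} : Set G)) * Nat.card (closure ({am, bm} : Set G)) ≤
      28800 * 6047 := Nat.mul_le_mul hq (by omega)
  omega

/-- the core theorem -/
theorem core (σ : E →* G) (hs : Function.Surjective σ) (hG : Nat.card G = 174182400)
    (a b c : E) (hKfin : Finite (closure ({a, b} : Set E)))
    (hK : Nat.card (closure ({a, b} : Set E)) ≤ 6048)
    (hinj : ∀ x ∈ closure ({a, b} : Set E), σ x = 1 → x = 1)
    (hex : ∀ w ∈ Cert.exactL, wv a b c w = 1)
    (hcen : ∀ w ∈ Cert.symL ++ Cert.cenL, wv a b c w ∈ σ.ker ⊓ center E)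
    (hgen : closure {a, b, c} = ⊤) :
    Finite E ∧ ((wv a b c xW)⁻¹) ^ 2 = 1 ∧ ((wv a b c yW)⁻¹) ^ 2 = 1 ∧
      σ.ker = closure {(wv a b c xW)⁻¹, (wv a b c yW)⁻¹} ∧ σ.ker ≤ center E := by
  have S : Setting a b c (σ.ker ⊓ center E) :=
    { central := inf_le_right
      disj := fun x hx hxA => hinj x hx (MonoidHom.mem_ker.1 hxA.1)
      exact := hex
      rel := hcen
      gen := hgen }
  obtain ⟨hxA, hyA, hx2, hy2, hfinQ, hfinZ, hq⟩ := mono_main S
  have hZle : closure {(wv a b c xW)⁻¹, (wv a b c yW)⁻¹} ≤ σ.ker ⊓ center E := by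
    rw [closure_le]
    intro g hg
    simp only [Set.mem_insert_iff, Set.mem_singleton_iff] at hg
    rcases hg with rfl | rfl
    · exact hxA
    · exact hyA
  obtain ⟨hfin, hker⟩ := count_main σ hs hG (closure {a, b}) hK _ (le_trans hZle inf_le_left) hq
  refine ⟨hfin, hx2, hy2, hker, ?_⟩
  rw [hker]
  exact le_trans hZle inf_le_right

end count

section rels

variable {K : Type*} [Group K] (x y z : K)

/-- the word conjugating `c` to its square -/
def wcL : List ℕ := [0, 2, 0, 0, 3, 1, 3, 4, 2, 0, 3, 5, 5, 1, 1]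

/-- the relator saying that `wcL` conjugates `c` to its square -/
def conjRel : List ℕ := wcL ++ ([4] ++ (invW wcL ++ [5, 5]))

/-- the conjugation relator of stage 2 -/
theorem conjRel_iff : wv x y z conjRel = 1 ↔ wv x y z wcL * z * (wv x y z wcL)⁻¹ = z ^ 2 := by
  have h0 : wv x y z [4] = z := by simp [wv, gl]
  have h1 : wv x y z [5, 5] = z⁻¹ * z⁻¹ := by simp [wv, gl]
  have e : wv x y z conjRel = (wv x y z wcL * z * (wv x y z wcL)⁻¹) * (z ^ 2)⁻¹ := by
    unfold conjRel
    rw [wv_append, wv_append, wv_append, wv_invW, h0, h1]; group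
  rw [e, mul_inv_eq_one]

/-- the exact relators of stage 2 either are words in the first two generators or one of two relators -/
theorem exact2_cases : ∀ w ∈ Cert.exactL, (∀ i ∈ w, i < 4) ∨ w = List.replicate 7 4 ∨ w = conjRel := by
  decide +kernel

theorem replicate_mem : List.replicate 7 4 ∈ Cert.exactL := by decide +kernel

theorem conjRel_mem : conjRel ∈ Cert.exactL := by decide +kernel

/-- the relators make the three elements products of commutators -/
theorem mem_commutator_of_exact (h1 : ∀ w ∈ Cfsg.Agent.Lib.H6.U33M.Cert.exactL, Cfsg.Agent.Lib.H6.U33M.wv x y w = 1)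
    (h2 : ∀ w ∈ Cert.exactL, wv x y z w = 1) :
    x ∈ commutator K ∧ y ∈ commutator K ∧ z ∈ commutator K := by
  obtain ⟨-, -, ha, hb⟩ := (Cfsg.Agent.Lib.H6.U43M.exact1_iff x y).1 h1
  have hz7 : z ^ 7 = 1 := by
    have := h2 (List.replicate 7 4) replicate_mem
    rwa [wv_replicate] at this
  have hc := (conjRel_iff x y z).1 (h2 _ conjRel_mem)
  have hcm : ∀ p q : K, ⁅p, q⁆ ∈ commutator K := fun p q =>
    Subgroup.commutator_mem_commutator (Subgroup.mem_top p) (Subgroup.mem_top q)
  refine ⟨?_, ?_, ?_⟩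
  · have e : ⁅Cfsg.Agent.Lib.H6.U33M.wv x y Cfsg.Agent.Lib.H6.U43M.waL, x⁆ = x := by
      rw [commutatorElement_def, ha]; group
    rw [← e]; exact hcm _ _
  · have e : ⁅Cfsg.Agent.Lib.H6.U33M.wv x y Cfsg.Agent.Lib.H6.U43M.wbL, y⁆ = y := by
      rw [commutatorElement_def, hb]; group
    rw [← e]; exact hcm _ _
  · have e : ⁅wv x y z wcL, z⁆ = z := by
      rw [commutatorElement_def, hc]; group
    rw [← e]; exact hcm _ _

end rels

end Cfsg.Agent.Lib.H29.O8M
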