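import Cfsg.Agent.Lib.H27.H1VanP8
import Cfsg.Agent.Lib.H6.U43M.Glue

set_option autoImplicit false

/-!
# Words in three elements of `Ω₈⁺(2)` given by bit rows (helper29)

The group is helper27's `Ω(Q)` for `Q = quadFormPlus 4 (ZMod 2)` (`Lib/H27/H1VanP8.lean`, `Lib/H27/CentOOrth.lean`).
Three elements of odd order are given as `GenData` (rows, rows of the inverse); the value of a word in the six letters
`a a⁻¹ b b⁻¹ c c⁻¹` (the letter code of helper6's `Lib/H6/U43M/Glue.lean`) is computed on bit masks; a word is trivial if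
it fixes the eight basis masks.  The three elements generate `Ω(Q)` if helper27's two generators are values of words.
-/

namespace Cfsg.Agent.Lib.H29.O8M

open Cfsg Cfsg.Agent.Lib.H27.H1Van Cfsg.Agent.Lib.H27.H1Van.P8
open Cfsg.Agent.Lib.H6.U43M (gl wv)

/-- the group `Ω₈⁺(2)` of helper27 -/
abbrev OmT : Type := ↥(Omega (ZMod 2) QQ)

theorem matOf_inv_om (A : GenData ee QQ) : matOf QQ (A.om index_OmQ)⁻¹ = toMat ee A.r' := by
  have h1 : matOf QQ (A.om index_OmQ)⁻¹ * matOf QQ (A.om index_OmQ) = 1 := matOf_inv_mul QQ _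
  have h2 : toMat ee A.r * toMat ee A.r' = 1 := toMat_mul_eq_one A.h1
  rw [A.matOf_om index_OmQ] at h1
  calc matOf QQ (A.om index_OmQ)⁻¹ = matOf QQ (A.om index_OmQ)⁻¹ * (toMat ee A.r * toMat ee A.r') := by
        rw [h2, mul_one]
    _ = toMat ee A.r' := by rw [← mul_assoc, h1, one_mul]

section engine

variable (dA dB dC : GenData ee QQ)

/-- the rows of the six letters -/
def gsOf : List (List ℕ) := [dA.r, dA.r', dB.r, dB.r', dC.r, dC.r']

theorem matOf_gl (x : ℕ) (hx : x < 6) :
    matOf QQ (gl (dA.om index_OmQ) (dB.om index_OmQ) (dC.om index_OmQ) x) =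
      toMat ee ((gsOf dA dB dC).getD x []) := by
  interval_cases x
  · exact dA.matOf_om index_OmQ
  · exact matOf_inv_om dA
  · exact dB.matOf_om index_OmQ
  · exact matOf_inv_om dB
  · exact dC.matOf_om index_OmQ
  · exact matOf_inv_om dC

/-- bounded universal quantifier -/
def allLt : ℕ → (ℕ → Bool) → Bool
  | 0, _ => true
  | n + 1, f => f n && allLt n f

theorem allLt_spec {n : ℕ} {f : ℕ → Bool} (h : allLt n f = true) : ∀ k < n, f k = true := by
  induction n with
  | zero => intro k hk; omega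
  | succ n ih =>
    unfold allLt at h
    simp only [Bool.and_eq_true] at h
    intro k hk
    rcases Nat.lt_succ_iff_lt_or_eq.1 hk with h1 | rfl
    · exact ih h.2 k h1
    · exact h.1

/-- lookup in the packed table of the six letters: `256` bytes for each letter -/
def lkT (T s x : ℕ) : ℕ := Nat.mod (Nat.shiftRight T (Nat.mul 8 (Nat.add (Nat.mul 256 s) x))) 256

/-- the action of a word on a mask, by table lookups -/
def actT (T : ℕ) (w : List ℕ) (x : ℕ) : ℕ := w.foldr (fun s acc => lkT T s acc) x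

/-- the packed table is the table of the rows -/
def tabOK (T : ℕ) (gs : List (List ℕ)) : Bool :=
  allLt 6 fun s => allLt 256 fun x => Nat.beq (lkT T s x) (appR 8 (gs.getD s []) x)

theorem actT_eq (T : ℕ) (gs : List (List ℕ)) (hT : tabOK T gs = true) (w : List ℕ) (hw : ∀ s ∈ w, s < 6)
    (x : ℕ) (hx : x < 256) : actT T w x = actW 8 gs w x ∧ actT T w x < 256 := by
  induction w with
  | nil => exact ⟨rfl, hx⟩
  | cons s w ih =>
    obtain ⟨h1, h2⟩ := ih (fun t ht => hw t (List.mem_cons_of_mem _ ht))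
    have hs := hw s List.mem_cons_self
    have h3 : lkT T s (actT T w x) = appR 8 (gs.getD s []) (actT T w x) :=
      Nat.eq_of_beq_eq_true (allLt_spec (allLt_spec hT s hs) _ h2)
    have h4 : actT T (s :: w) x = lkT T s (actT T w x) := rfl
    rw [h4, h3, actW_cons, ← h1]
    exact ⟨rfl, appR_lt _ _⟩

/-- the check of a word: all letters are `< 6` and the eight basis masks are fixed -/
def chkW (T : ℕ) (w : List ℕ) : Bool :=
  w.all (fun x => Nat.blt x 6) &&
    (Nat.beq (actT T w 1) 1 && Nat.beq (actT T w 2) 2 && Nat.beq (actT T w 4) 4 &&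
      Nat.beq (actT T w 8) 8 && Nat.beq (actT T w 16) 16 && Nat.beq (actT T w 32) 32 &&
      Nat.beq (actT T w 64) 64 && Nat.beq (actT T w 128) 128)

/-- the check that the value of a word has the given rows -/
def chkEq (T : ℕ) (w : List ℕ) (r : List ℕ) : Bool :=
  w.all (fun x => Nat.blt x 6) &&
    (Nat.beq (actT T w 1) (appR 8 r 1) && Nat.beq (actT T w 2) (appR 8 r 2) &&
      Nat.beq (actT T w 4) (appR 8 r 4) && Nat.beq (actT T w 8) (appR 8 r 8) &&
      Nat.beq (actT T w 16) (appR 8 r 16) && Nat.beq (actT T w 32) (appR 8 r 32) &&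
      Nat.beq (actT T w 64) (appR 8 r 64) && Nat.beq (actT T w 128) (appR 8 r 128))

theorem forall_lt_eight {P : ℕ → Prop} (h0 : P 0) (h1 : P 1) (h2 : P 2) (h3 : P 3) (h4 : P 4) (h5 : P 5)
    (h6 : P 6) (h7 : P 7) : ∀ k < 8, P k := by
  intro k hk
  interval_cases k <;> assumption

theorem letters_of_all (w : List ℕ) (h : w.all (fun x => Nat.blt x 6) = true) : ∀ x ∈ w, x < 6 :=
  fun x hx => Nat.le_of_ble_eq_true (List.all_eq_true.1 h x hx)

theorem wv_eq_evalW (w : List ℕ) :
    wv (dA.om index_OmQ) (dB.om index_OmQ) (dC.om index_OmQ) w =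
      evalW (gl (dA.om index_OmQ) (dB.om index_OmQ) (dC.om index_OmQ)) w := rfl

variable (T : ℕ) (hT : tabOK T (gsOf dA dB dC) = true)

include hT in
/-- a word that passes the check is trivial -/
theorem wv_eq_one_of_chk (w : List ℕ) (h : chkW T w = true) :
    wv (dA.om index_OmQ) (dB.om index_OmQ) (dC.om index_OmQ) w = 1 := by
  unfold chkW at h
  simp only [Bool.and_eq_true] at h
  obtain ⟨hl, ⟨⟨⟨⟨⟨⟨⟨e0, e1⟩, e2⟩, e3⟩, e4⟩, e5⟩, e6⟩, e7⟩⟩ := h
  have hw := letters_of_all w hl
  have key : ∀ x < 256, actW 8 (gsOf dA dB dC) w x = actT T w x :=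
    fun x hx => (actT_eq T _ hT w hw x hx).1.symm
  rw [wv_eq_evalW]
  apply evalW_eq_one ee _ (gsOf dA dB dC) w (fun s hs => matOf_gl dA dB dC s (hw s hs))
  refine forall_lt_eight ?_ ?_ ?_ ?_ ?_ ?_ ?_ ?_
  · rw [key _ (by norm_num)]; exact Nat.eq_of_beq_eq_true e0
  · rw [key _ (by norm_num)]; exact Nat.eq_of_beq_eq_true e1
  · rw [key _ (by norm_num)]; exact Nat.eq_of_beq_eq_true e2
  · rw [key _ (by norm_num)]; exact Nat.eq_of_beq_eq_true e3
  · rw [key _ (by norm_num)]; exact Nat.eq_of_beq_eq_true e4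
  · rw [key _ (by norm_num)]; exact Nat.eq_of_beq_eq_true e5
  · rw [key _ (by norm_num)]; exact Nat.eq_of_beq_eq_true e6
  · rw [key _ (by norm_num)]; exact Nat.eq_of_beq_eq_true e7

include hT in
/-- a word whose value has the rows of a fourth element is equal to it -/
theorem wv_eq_of_chk (w : List ℕ) (D : GenData ee QQ) (h : chkEq T w D.r = true) :
    wv (dA.om index_OmQ) (dB.om index_OmQ) (dC.om index_OmQ) w = D.om index_OmQ := by
  unfold chkEq at h
  simp only [Bool.and_eq_true] at h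
  obtain ⟨hl, ⟨⟨⟨⟨⟨⟨⟨e0, e1⟩, e2⟩, e3⟩, e4⟩, e5⟩, e6⟩, e7⟩⟩ := h
  have hw := letters_of_all w hl
  have key : ∀ x < 256, actW 8 (gsOf dA dB dC) w x = actT T w x :=
    fun x hx => (actT_eq T _ hT w hw x hx).1.symm
  rw [wv_eq_evalW]
  apply matOf_inj
  apply mat_ext_basis ee
  intro k hk
  rw [matOf_evalW ee _ (gsOf dA dB dC) w (fun s hs => matOf_gl dA dB dC s (hw s hs)), D.matOf_om index_OmQ,
    mulVec_dec]
  congr 1
  revert k
  refine forall_lt_eight ?_ ?_ ?_ ?_ ?_ ?_ ?_ ?_
  · rw [key _ (by norm_num)]; exact Nat.eq_of_beq_eq_true e0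
  · rw [key _ (by norm_num)]; exact Nat.eq_of_beq_eq_true e1
  · rw [key _ (by norm_num)]; exact Nat.eq_of_beq_eq_true e2
  · rw [key _ (by norm_num)]; exact Nat.eq_of_beq_eq_true e3
  · rw [key _ (by norm_num)]; exact Nat.eq_of_beq_eq_true e4
  · rw [key _ (by norm_num)]; exact Nat.eq_of_beq_eq_true e5
  · rw [key _ (by norm_num)]; exact Nat.eq_of_beq_eq_true e6
  · rw [key _ (by norm_num)]; exact Nat.eq_of_beq_eq_true e7

omit T in
/-- an element of order `7` given by rows is not `1` if it moves a basis mask -/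
theorem om_ne_one (A : GenData ee QQ) (k : ℕ) (hk : k < 8) (h : appR 8 A.r (2 ^ k) ≠ 2 ^ k) :
    A.om index_OmQ ≠ 1 := by
  intro h1
  apply h
  have h2 : matOf QQ (A.om index_OmQ) = 1 := by rw [h1]; exact matOf_one QQ
  rw [A.matOf_om index_OmQ] at h2
  have h3 := mulVec_dec ee A.r (2 ^ k)
  rw [h2, Matrix.one_mulVec] at h3
  exact (dec_inj ee (Nat.pow_lt_pow_right (by norm_num) hk) (appR_lt _ _) h3).symm

end engine

theorem wv_mem_closure3 {K : Type*} [Group K] (x y z : K) (w : List ℕ) :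
    wv x y z w ∈ Subgroup.closure ({x, y, z} : Set K) := by
  unfold Cfsg.Agent.Lib.H6.U43M.wv
  apply Subgroup.list_prod_mem
  intro g hg
  obtain ⟨i, -, rfl⟩ := List.mem_map.1 hg
  have hx : x ∈ Subgroup.closure ({x, y, z} : Set K) := Subgroup.subset_closure (by simp)
  have hy : y ∈ Subgroup.closure ({x, y, z} : Set K) := Subgroup.subset_closure (by simp)
  have hz : z ∈ Subgroup.closure ({x, y, z} : Set K) := Subgroup.subset_closure (by simp)
  unfold Cfsg.Agent.Lib.H6.U43M.gl
  split
  · exact hx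
  · exact inv_mem hx
  · exact hy
  · exact inv_mem hy
  · exact hz
  · exact inv_mem hz
  · exact one_mem _

/-- helper27's two generators generate `Ω₈⁺(2)` -/
theorem closure_AB : Subgroup.closure ({datA.om index_OmQ, datB.om index_OmQ} : Set OmT) = ⊤ := by
  have hfin : Finite OmT := Nat.finite_of_card_ne_zero (by rw [card_OmQ]; norm_num)
  let G : ℕ → OmT := fun s => if s = 0 then datA.om index_OmQ else datB.om index_OmQ
  have hG : ∀ s < [datA.r, datB.r].length, matOf QQ (G s) = toMat ee ([datA.r, datB.r].getD s []) := by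
    intro s hs
    have hs2 : s < 2 := hs
    interval_cases s
    · exact datA.matOf_om index_OmQ
    · exact datB.matOf_om index_OmQ
  have hge := card_genSub_ge ee G [datA.r, datB.r] hG slp slp_ok lv lv_ok
  have htop : genSub G 2 = ⊤ := by
    apply Subgroup.eq_top_of_le_card
    rw [card_OmQ]
    exact le_trans lv_prod hge
  rw [eq_top_iff, ← htop]
  unfold genSub
  rw [Subgroup.closure_le]
  rintro _ ⟨s, hs, rfl⟩
  apply Subgroup.subset_closure
  interval_cases s
  · left; rfl
  · right; rfl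

/-- three elements generate `Ω₈⁺(2)` if helper27's generators are values of words in them -/
theorem closure_of_words (dA dB dC : GenData ee QQ) (T : ℕ) (hT : tabOK T (gsOf dA dB dC) = true)
    (wA wB : List ℕ) (hA : chkEq T wA datA.r = true) (hB : chkEq T wB datB.r = true) :
    Subgroup.closure ({dA.om index_OmQ, dB.om index_OmQ, dC.om index_OmQ} : Set OmT) = ⊤ := by
  rw [eq_top_iff, ← closure_AB, Subgroup.closure_le]
  intro g hg
  simp only [Set.mem_insert_iff, Set.mem_singleton_iff] at hg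
  rcases hg with rfl | rfl
  · rw [← wv_eq_of_chk dA dB dC T hT wA datA hA]
    exact wv_mem_closure3 _ _ _ wA
  · rw [← wv_eq_of_chk dA dB dC T hT wB datB hB]
    exact wv_mem_closure3 _ _ _ wB

end Cfsg.Agent.Lib.H29.O8M
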