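import Cfsg.Agent.Lib.H12.J3M.MonoWide

set_option autoImplicit false

/-!
# Generic lemmas for the glue of a monomial certificate with a kernel of rank two (helper29)

Independent of the number of symbols: unit vectors, and lattice certificates showing that every symbol is a product of
powers of two chosen twists.  (On top of helper17's `Lib/H17/M22M/MonoTw.lean` and helper12's `Lib/H12/J3M/MonoWide.lean`.)
-/

namespace Cfsg.Agent.Lib.H29.MonoGlue

open Cfsg.Agent.Lib.H17.MonoCert
open Cfsg.Agent.Lib.H12.J3M (lsmul lcomb ltw_lsmul ltw_lcomb)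

/-- the list of the `k` unit vectors of length `k` -/
def unitsL : ℕ → List (List ℤ)
  | 0 => []
  | k + 1 => ((1 : ℤ) :: List.replicate k (0 : ℤ)) :: (unitsL k).map (List.cons (0 : ℤ))

theorem unitsL_length (k : ℕ) : (unitsL k).length = k := by
  induction k with
  | zero => rfl
  | succ k ih => simp [unitsL, ih]

section

variable {A : Type*} [CommGroup A]

theorem ltw_cons_cons (ζ : A) (ζs : List A) (e : ℤ) (t : List ℤ) :
    ltw (ζ :: ζs) (e :: t) = ζ ^ e * ltw ζs t := rfl

/-- the twist of the `i`-th unit vector is the `i`-th symbol -/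
theorem ltw_zip_units {α : Type*} (ρ : α → A) (L : List α) :
    ∀ p ∈ List.zip L (unitsL L.length), ltw (L.map ρ) p.2 = ρ p.1 := by
  induction L with
  | nil => intro p hp; simp at hp
  | cons a L ih =>
    intro p hp
    rw [List.length_cons, unitsL, List.zip_cons_cons, List.mem_cons] at hp
    rcases hp with rfl | hp
    · rw [List.map_cons, ltw_cons_cons, ltw_replicate_zero, zpow_one, mul_one]
    · rw [List.zip_map_right, List.mem_map] at hp
      obtain ⟨q, hq, rfl⟩ := hp
      rw [List.map_cons]
      change ρ a ^ (0 : ℤ) * ltw (L.map ρ) q.2 = ρ q.1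
      rw [zpow_zero, one_mul]
      exact ih q hq

/-- every symbol is the twist of a unit vector -/
theorem exists_unit_of_mem (ζs : List A) : ∀ a ∈ ζs, ∃ u ∈ unitsL ζs.length, ltw ζs u = a := by
  intro a ha
  have hlen : ζs.length = (unitsL ζs.length).length := (unitsL_length _).symm
  obtain ⟨i, hi, rfl⟩ := List.getElem_of_mem ha
  have hi' : i < (unitsL ζs.length).length := by rw [unitsL_length]; exact hi
  refine ⟨(unitsL ζs.length)[i], List.getElem_mem _, ?_⟩
  have hp : (ζs[i], (unitsL ζs.length)[i]) ∈ List.zip ζs (unitsL ζs.length) := by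
    rw [List.mem_iff_getElem]
    refine ⟨i, by rw [List.length_zip]; omega, ?_⟩
    rw [List.getElem_zip]
  have := ltw_zip_units (fun x : A => x) ζs _ hp
  rwa [List.map_id'] at this

/-- the check of the lattice certificates: for every unit vector `u` with certificate `(a, b, c)`:
`u - a • ex - b • ey` is the combination of the relation vectors with the coefficients `c` -/
noncomputable def certsOK (ex ey : List ℤ) (vs : List (List ℤ)) :
    List (List ℤ) → List (ℤ × ℤ × List ℤ) → Bool
  | [], [] => true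
  | u :: us, c :: cs =>
      leq (ladd u (ladd (lsmul (Int.neg c.1) ex) (lsmul (Int.neg c.2.1) ey))) (lcomb c.2.2 vs) &&
        certsOK ex ey vs us cs
  | _, _ => false

theorem certs_sound (ζs : List A) (ex ey : List ℤ) (vs : List (List ℤ))
    (hvs : ∀ v ∈ vs, ltw ζs v = 1) :
    ∀ (us : List (List ℤ)) (cs : List (ℤ × ℤ × List ℤ)), certsOK ex ey vs us cs = true →
      ∀ u ∈ us, ltw ζs u ∈ Subgroup.zpowers (ltw ζs ex) ⊔ Subgroup.zpowers (ltw ζs ey) := by
  intro us
  induction us with
  | nil => intro cs _ u hu; simp at hu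
  | cons u0 us ih =>
    intro cs h u hu
    cases cs with
    | nil => simp [certsOK] at h
    | cons c cs =>
      simp only [certsOK, Bool.and_eq_true] at h
      obtain ⟨h1, h2⟩ := h
      rcases List.mem_cons.1 hu with rfl | hu'
      · have e : ladd u (ladd (lsmul (Int.neg c.1) ex) (lsmul (Int.neg c.2.1) ey)) = lcomb c.2.2 vs :=
          of_decide_eq_true h1
        have h3 := ltw_lcomb ζs vs hvs c.2.2
        rw [← e, ltw_add, ltw_add, ltw_lsmul, ltw_lsmul] at h3
        have h4 : ltw ζs u = ((ltw ζs ex) ^ (Int.neg c.1) * (ltw ζs ey) ^ (Int.neg c.2.1))⁻¹ :=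
          eq_inv_of_mul_eq_one_left h3
        rw [h4]
        apply inv_mem
        exact mul_mem (Subgroup.mem_sup_left (Subgroup.zpow_mem_zpowers _ _))
          (Subgroup.mem_sup_right (Subgroup.zpow_mem_zpowers _ _))
      · exact ih cs h2 u hu'

/-- all twists are products of powers of the two chosen twists -/
theorem ltw_mem_sup (ζs : List A) (ex ey : List ℤ) (vs : List (List ℤ))
    (hvs : ∀ v ∈ vs, ltw ζs v = 1) (cs : List (ℤ × ℤ × List ℤ))
    (h : certsOK ex ey vs (unitsL ζs.length) cs = true) (t : List ℤ) :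
    ltw ζs t ∈ Subgroup.zpowers (ltw ζs ex) ⊔ Subgroup.zpowers (ltw ζs ey) := by
  have h1 := ltw_mem_closure ζs t
  refine (Subgroup.closure_le _).mpr ?_ h1
  intro a ha
  obtain ⟨u, hu, rfl⟩ := exists_unit_of_mem ζs a ha
  exact certs_sound ζs ex ey vs hvs _ cs h u hu

end

/-- reduction of an integer power -/
theorem zpow_fin {K : Type*} [Group K] (u : K) (n : ℕ) (hn : 0 < n) (h : u ^ n = 1) (i : ℤ) :
    ∃ j : Fin n, u ^ i = u ^ (j : ℕ) := by
  have h1 : 0 ≤ i % (n : ℤ) := Int.emod_nonneg _ (by exact_mod_cast hn.ne')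
  have h2 : i % (n : ℤ) < n := Int.emod_lt_of_pos _ (by exact_mod_cast hn)
  refine ⟨⟨(i % (n : ℤ)).toNat, by omega⟩, ?_⟩
  rw [zpow_eq_zpow_emod' i h]
  change u ^ (i % (n : ℤ)) = u ^ ((i % (n : ℤ)).toNat)
  rw [← zpow_natCast, Int.toNat_of_nonneg h1]

end Cfsg.Agent.Lib.H29.MonoGlue
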