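import Cfsg.Agent.Lib.H29.O8M.Cert.Run
import Cfsg.Agent.Lib.H29.O8M.Cert.Lists
import Cfsg.Agent.Lib.H6.U43M.Glue
import Cfsg.Agent.Lib.H12.J3M.GlueBase
import Cfsg.Agent.Lib.H29.O8M.GlueLib

set_option autoImplicit false
set_option maxRecDepth 100000

/-!
# The monomial certificate applied to a group with three marked elements (helper29; generated from a template)

`Setting ga gb gc A`: the exact relators hold for `ga gb gc`, all other relators have values in the central subgroup `A`,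
which meets `⟨ga, gb⟩` trivially, and `ga gb gc` generate.  Conclusion: with `X`, `W` the inverses of the values of the
symbol relators `xW`, `yW`: `X ^ 2 = 1`, `W ^ 2 = 1` and `⟨ga, gb⟩` has at most `28800 * |⟨X, W⟩|` cosets.
(The pattern is helper6's `Lib/H6/U43M/Glue.lean`, itself adapted from helper17's `Lib/H17/M22M/MonoGlue.lean`; the
lattice algebra is done by the generic `Lib/H29/O8M/GlueLib.lean`, so nothing here depends on the number of symbols.)
-/

namespace Cfsg.Agent.Lib.H29.O8M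

open Cfsg.Agent.Lib.H17.CosetCert (WT act)
open Cfsg.Agent.Lib.H17.MonoCert
open Cfsg.Agent.Lib.H6.U43M (gl wv)
open Cfsg.Agent.Lib.H12.J3M (commGroupOfCentral smulComm_of_central free_of_disj act_inv lsmul lcomb
  ltw_pow_of_lcomb)
open Cfsg.Agent.Lib.H29.MonoGlue

section

variable {Γ : Type*} [Group Γ] (ga gb gc : Γ)

/-- the hypotheses -/
structure Setting (A : Subgroup Γ) : Prop where
  central : A ≤ Subgroup.center Γ
  disj : ∀ x ∈ Subgroup.closure {ga, gb}, x ∈ A → x = 1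
  exact : ∀ w ∈ Cfsg.Agent.Lib.H29.O8M.Cert.exactL, wv ga gb gc w = 1
  rel : ∀ w ∈ Cfsg.Agent.Lib.H29.O8M.Cert.symL ++ Cfsg.Agent.Lib.H29.O8M.Cert.cenL, wv ga gb gc w ∈ A
  gen : Subgroup.closure {ga, gb, gc} = ⊤

theorem wv_pair : ∀ w ∈ Cfsg.Agent.Lib.H29.O8M.Cert.pairL, wv ga gb gc w = 1 := by
  intro w hw
  simp only [Cfsg.Agent.Lib.H29.O8M.Cert.pairL, List.mem_cons, List.not_mem_nil, or_false] at hw
  rcases hw with rfl | rfl | rfl | rfl | rfl | rfl <;> simp [wv, gl]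

variable {ga gb gc}

theorem Setting.rel_all {A : Subgroup Γ} (S : Setting ga gb gc A) :
    ∀ w ∈ Cfsg.Agent.Lib.H29.O8M.Cert.relL, wv ga gb gc w ∈ A := by
  intro w hw
  rcases Cfsg.Agent.Lib.H29.O8M.Cert.rel_cases w hw with h | h
  · rcases List.mem_append.mp h with h1 | h1
    · rw [S.exact w h1]; exact one_mem _
    · rw [wv_pair ga gb gc w h1]; exact one_mem _
  · exact S.rel w h

end

section main

variable {Γ : Type*} [Group Γ] {ga gb gc : Γ} {A : Subgroup Γ}

/-- the word of the first central generator -/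
def xW : List ℕ := [0, 4, 0, 4, 0, 4, 0, 4]

/-- the word of the second central generator -/
def yW : List ℕ := [0, 3, 5, 0, 3, 5, 0, 3, 5, 0, 3, 5]

/-- the vector of the first central generator -/
def exV : List ℤ := [(0 : ℤ), (0 : ℤ), (0 : ℤ), (0 : ℤ), (1 : ℤ), (0 : ℤ)]

/-- the vector of the second central generator -/
def eyV : List ℤ := [(0 : ℤ), (0 : ℤ), (0 : ℤ), (0 : ℤ), (0 : ℤ), (1 : ℤ)]

open Classical in
/-- the inverse of the value of a word, as an element of `A` (`1` if the value is not in `A`) -/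
noncomputable def ρA (ga gb gc : Γ) (A : Subgroup Γ) (w : List ℕ) : A :=
  if h : wv ga gb gc w ∈ A then ⟨(wv ga gb gc w)⁻¹, A.inv_mem h⟩ else 1

theorem ρA_coe (w : List ℕ) (h : wv ga gb gc w ∈ A) :
    ((ρA ga gb gc A w : A) : Γ) = (wv ga gb gc w)⁻¹ := by
  unfold ρA
  rw [dif_pos h]

theorem gens_top (S : Setting ga gb gc A) :
    Subgroup.closure {g : Γ | ∃ x < 6, g = (gl ga gb gc x)⁻¹} = ⊤ := by
  rw [eq_top_iff, ← S.gen, Subgroup.closure_le]
  intro g hg
  simp only [Set.mem_insert_iff, Set.mem_singleton_iff] at hg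
  apply Subgroup.subset_closure
  rcases hg with rfl | rfl | rfl
  · exact ⟨1, by norm_num, by simp [gl]⟩
  · exact ⟨3, by norm_num, by simp [gl]⟩
  · exact ⟨5, by norm_num, by simp [gl]⟩

theorem letters_inv : ∀ x < 6, ∃ y < 6, (gl ga gb gc y)⁻¹ = ((gl ga gb gc x)⁻¹)⁻¹ := by
  intro x hx
  interval_cases x
  · exact ⟨1, by norm_num, by simp [gl]⟩
  · exact ⟨0, by norm_num, by simp [gl]⟩
  · exact ⟨3, by norm_num, by simp [gl]⟩
  · exact ⟨2, by norm_num, by simp [gl]⟩
  · exact ⟨5, by norm_num, by simp [gl]⟩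
  · exact ⟨4, by norm_num, by simp [gl]⟩

/-- the list of the symbol values -/
noncomputable def ζs (ga gb gc : Γ) (A : Subgroup Γ) : List A := Cfsg.Agent.Lib.H29.O8M.Cert.symL.map (ρA ga gb gc A)

theorem symL_length : Cfsg.Agent.Lib.H29.O8M.Cert.symL.length = 6 := by decide

theorem unitL_eq : Cfsg.Agent.Lib.H29.O8M.Cert.unitL = unitsL 6 := by decide +kernel

theorem ζs_length : (ζs ga gb gc A).length = 6 := by
  unfold ζs
  rw [List.length_map, symL_length]

theorem wordsOK (S : Setting ga gb gc A) :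
    letI := commGroupOfCentral A S.central
    haveI := smulComm_of_central A (Subgroup.closure {ga, gb}) S.central
    WordsOK Cfsg.Agent.Lib.H29.O8M.Cert.Ev (ltw (ζs ga gb gc A)) (fun x => (gl ga gb gc x)⁻¹)
      (((1 : Γ) : Γ ⧸ Subgroup.closure {ga, gb})) Cfsg.Agent.Lib.H29.O8M.Cert.words 216 := by
  let _ := commGroupOfCentral A S.central
  intro w wd r hget
  have hm := WT.get_mem Cfsg.Agent.Lib.H29.O8M.Cert.words w (wd, r) hget
  obtain ⟨h1, h2⟩ := Cfsg.Agent.Lib.H29.O8M.Cert.words_mem _ hm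
  refine ⟨fun hr => ?_, fun hr hw => ?_, fun hr => ?_⟩
  · have hA := S.rel_all wd (h1 hr)
    refine ⟨⟨(wv ga gb gc wd)⁻¹, A.inv_mem hA⟩, fun q => ?_⟩
    rw [act_inv]
    rfl
  · subst hr
    have hs := Cfsg.Agent.Lib.H29.O8M.Cert.seed_mem w hw
    unfold Cfsg.Agent.Lib.H29.O8M.Cert.seedChk at hs
    rw [hget] at hs
    simp only [decide_eq_true_eq] at hs
    intro q
    rw [act_inv]
    rcases Cfsg.Agent.Lib.H29.O8M.Cert.seed_cases _ hs with ⟨he, hmem⟩ | hz
    · simp only [] at he hmem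
      have hv : wv ga gb gc wd = 1 := by
        rcases List.mem_append.mp hmem with h | h
        · exact S.exact wd h
        · exact wv_pair ga gb gc wd h
      change (wv ga gb gc wd)⁻¹ • q = _
      rw [hv, he, ltw_replicate_zero, inv_one, one_smul, one_smul]
    · rw [unitL_eq, ← symL_length] at hz
      have hmem : wd ∈ Cfsg.Agent.Lib.H29.O8M.Cert.symL := (List.of_mem_zip hz).1
      have e1 := ltw_zip_units (ρA ga gb gc A) Cfsg.Agent.Lib.H29.O8M.Cert.symL _ hz
      simp only [] at e1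
      change (wv ga gb gc wd)⁻¹ • q = ltw (ζs ga gb gc A) (Cfsg.Agent.Lib.H29.O8M.Cert.Ev w) • q
      unfold ζs
      rw [e1]
      change _ = ((ρA ga gb gc A wd : A) : Γ) • q
      rw [ρA_coe wd (S.rel wd (List.mem_append_left _ hmem))]
  · have hsub := h2 hr
    rw [act_inv]
    have hmem : (List.map (gl ga gb gc) wd).prod ∈ Subgroup.closure {ga, gb} := by
      simp only [Cfsg.Agent.Lib.H29.O8M.Cert.subL, List.mem_cons, List.not_mem_nil, or_false] at hsub
      rcases hsub with rfl | rfl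
      · simp only [List.map_cons, List.map_nil, List.prod_cons, List.prod_nil, mul_one, gl]
        exact Subgroup.subset_closure (by simp)
      · simp only [List.map_cons, List.map_nil, List.prod_cons, List.prod_nil, mul_one, gl]
        exact Subgroup.subset_closure (by simp)
    rw [MulAction.Quotient.smul_mk, QuotientGroup.eq]
    simpa using hmem

end main

section alg

/-- the relation vectors -/
noncomputable def relV : List (List ℤ) := Cfsg.Agent.Lib.H29.O8M.Cert.relPairs.map (fun p => p.2.2)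

/-- the lattice certificates of the symbols -/
def symCerts : List (ℤ × ℤ × List ℤ) := [((0 : ℤ), (0 : ℤ), [(80352 : ℤ), (-130454 : ℤ), (-1068 : ℤ), (-2203 : ℤ), (8092 : ℤ), (67 : ℤ), (89 : ℤ)]),
  ((0 : ℤ), (0 : ℤ), [(-319833 : ℤ), (519188 : ℤ), (4351 : ℤ), (8903 : ℤ), (-32211 : ℤ), (-268 : ℤ), (-357 : ℤ)]),
  ((0 : ℤ), (0 : ℤ), [(87501 : ℤ), (-142058 : ℤ), (-1166 : ℤ), (-2403 : ℤ), (8812 : ℤ), (73 : ℤ), (97 : ℤ)]),
  ((0 : ℤ), (0 : ℤ), [(83926 : ℤ), (-136256 : ℤ), (-1117 : ℤ), (-2303 : ℤ), (8452 : ℤ), (70 : ℤ), (93 : ℤ)]),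
  ((1 : ℤ), (0 : ℤ), [(0 : ℤ), (0 : ℤ), (0 : ℤ), (0 : ℤ), (0 : ℤ), (0 : ℤ), (0 : ℤ)]),
  ((0 : ℤ), (1 : ℤ), [(0 : ℤ), (0 : ℤ), (0 : ℤ), (0 : ℤ), (0 : ℤ), (0 : ℤ), (0 : ℤ)])]

/-- the lattice certificate of the order of the first central generator -/
def ordCertX : List ℤ := [(318 : ℤ), (-421 : ℤ), (-137 : ℤ), (-188 : ℤ), (34 : ℤ), (2 : ℤ), (4 : ℤ)]

/-- the lattice certificate of the order of the second central generator -/
def ordCertY : List ℤ := [(-277 : ℤ), (355 : ℤ), (138 : ℤ), (189 : ℤ), (-30 : ℤ), (-2 : ℤ), (-4 : ℤ)]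

theorem symCerts_ok : certsOK exV eyV relV (unitsL 6) symCerts = true := by decide +kernel

theorem ordCertX_ok : lsmul (2 : ℤ) exV = lcomb ordCertX relV := by decide +kernel

theorem ordCertY_ok : lsmul (2 : ℤ) eyV = lcomb ordCertY relV := by decide +kernel

theorem ltw_exV {B : Type*} [CommGroup B] (ρ : List ℕ → B) : ltw (Cfsg.Agent.Lib.H29.O8M.Cert.symL.map ρ) exV = ρ xW := by
  simp [Cfsg.Agent.Lib.H29.O8M.Cert.symL, exV, xW, ltw]

theorem ltw_eyV {B : Type*} [CommGroup B] (ρ : List ℕ → B) : ltw (Cfsg.Agent.Lib.H29.O8M.Cert.symL.map ρ) eyV = ρ yW := by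
  simp [Cfsg.Agent.Lib.H29.O8M.Cert.symL, eyV, yW, ltw]

theorem xW_mem : xW ∈ Cfsg.Agent.Lib.H29.O8M.Cert.symL ++ Cfsg.Agent.Lib.H29.O8M.Cert.cenL := by decide

theorem yW_mem : yW ∈ Cfsg.Agent.Lib.H29.O8M.Cert.symL ++ Cfsg.Agent.Lib.H29.O8M.Cert.cenL := by decide

end alg

section final

variable {Γ : Type*} [Group Γ] {ga gb gc : Γ} {A : Subgroup Γ}

theorem mem_of_mul_eq_one {K : Type*} [Group K] (L : Subgroup K) {x r : K} (h : x * r = 1)
    (hr : r ∈ L) : x ∈ L := by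
  rw [eq_inv_of_mul_eq_one_left h]
  exact L.inv_mem hr

/-- **Main theorem of the certificate.** -/
theorem mono_main (S : Setting ga gb gc A) :
    (wv ga gb gc xW)⁻¹ ∈ A ∧ (wv ga gb gc yW)⁻¹ ∈ A ∧ ((wv ga gb gc xW)⁻¹) ^ 2 = 1 ∧
      ((wv ga gb gc yW)⁻¹) ^ 2 = 1 ∧
      Finite (Γ ⧸ Subgroup.closure {ga, gb}) ∧
      Finite (Subgroup.closure {(wv ga gb gc xW)⁻¹, (wv ga gb gc yW)⁻¹}) ∧
      Nat.card (Γ ⧸ Subgroup.closure {ga, gb}) ≤
        28800 * Nat.card (Subgroup.closure {(wv ga gb gc xW)⁻¹, (wv ga gb gc yW)⁻¹}) := by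
  let _ := commGroupOfCentral A S.central
  have := smulComm_of_central A (Subgroup.closure {ga, gb}) S.central
  have hxmem : wv ga gb gc xW ∈ A := S.rel xW xW_mem
  have hymem : wv ga gb gc yW ∈ A := S.rel yW yW_mem
  set Q := Γ ⧸ Subgroup.closure {ga, gb} with hQ
  set q0 : Q := ((1 : Γ) : Q) with hq0
  set tw : List ℤ → A := ltw (ζs ga gb gc A) with htw_def
  set γ : ℕ → Γ := fun x => (gl ga gb gc x)⁻¹ with hγ
  have htw : TwOK ladd (List.replicate 6 0) leq tw := ltw_ok _ 6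
  have hfree : ∀ (α β : A) (q : Q), α • q = β • q → α = β :=
    free_of_disj A (Subgroup.closure {ga, gb}) S.central S.disj
  have hw := wordsOK S
  have hI := Cfsg.Agent.Lib.H29.O8M.Cert.run tw γ hfree htw q0 hw
  obtain ⟨c, hc0, hwords, hcov⟩ := covered Cfsg.Agent.Lib.H29.O8M.Cert.F Cfsg.Agent.Lib.H29.O8M.Cert.Ev 6 262144 tw γ q0 Cfsg.Agent.Lib.H29.O8M.Cert.words 172800 28800 328
    hI Cfsg.Agent.Lib.H29.O8M.Cert.rows Cfsg.Agent.Lib.H29.O8M.Cert.rows_ok Cfsg.Agent.Lib.H29.O8M.Cert.rows_length (gens_top S) letters_inv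
  -- the relations
  have hrel : ∀ p ∈ Cfsg.Agent.Lib.H29.O8M.Cert.relPairs, tw p.2.2 = 1 := by
    intro p hp
    have hchk := Cfsg.Agent.Lib.H29.O8M.Cert.rel_chk p hp
    unfold Cfsg.Agent.Lib.H29.O8M.Cert.relChk at hchk
    rcases h1 : WT.get Cfsg.Agent.Lib.H29.O8M.Cert.words p.1 with _ | ⟨wd1, r1⟩
    · rw [h1] at hchk; exact absurd hchk (by simp)
    · rcases h2 : WT.get Cfsg.Agent.Lib.H29.O8M.Cert.words p.2.1 with _ | ⟨wd2, r2⟩
      · rw [h1, h2] at hchk
        cases r1 <;> exact absurd hchk (by simp)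
      · rw [h1, h2] at hchk
        cases r1 with
        | false => exact absurd hchk (by simp)
        | true =>
          cases r2 with
          | false => exact absurd hchk (by simp)
          | true =>
            simp only [Bool.and_eq_true, decide_eq_true_eq] at hchk
            obtain ⟨⟨⟨hwd, hev⟩, hlt1⟩, hlt2⟩ := hchk
            subst hwd
            have e1 := hwords p.1 hlt1 wd1 h1 q0
            have e2 := hwords p.2.1 hlt2 wd1 h2 q0
            have e3 : tw (Cfsg.Agent.Lib.H29.O8M.Cert.Ev p.1) = tw (Cfsg.Agent.Lib.H29.O8M.Cert.Ev p.2.1) := hfree _ _ q0 (e1.symm.trans e2)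
            rw [hev, htw.add] at e3
            exact (mul_eq_left.mp e3.symm)
  have hR : ∀ v ∈ relV, tw v = 1 := by
    intro v hv
    obtain ⟨p, hp, rfl⟩ := List.mem_map.mp hv
    exact hrel p hp
  -- the algebra
  set u : A := ρA ga gb gc A xW with hu
  set v : A := ρA ga gb gc A yW with hv
  have htu : tw exV = u := ltw_exV (ρA ga gb gc A)
  have htv : tw eyV = v := ltw_eyV (ρA ga gb gc A)
  have hucoe : (u : Γ) = (wv ga gb gc xW)⁻¹ := ρA_coe xW hxmem
  have hvcoe : (v : Γ) = (wv ga gb gc yW)⁻¹ := ρA_coe yW hymem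
  have huX : u ^ 2 = 1 := by
    have h := ltw_pow_of_lcomb (ζs ga gb gc A) relV hR ordCertX (2 : ℤ) exV ordCertX_ok
    rw [← htw_def, htu] at h
    have h' : u ^ ((2 : ℕ) : ℤ) = 1 := h
    rwa [zpow_natCast] at h'
  have hvW : v ^ 2 = 1 := by
    have h := ltw_pow_of_lcomb (ζs ga gb gc A) relV hR ordCertY (2 : ℤ) eyV ordCertY_ok
    rw [← htw_def, htv] at h
    have h' : v ^ ((2 : ℕ) : ℤ) = 1 := h
    rwa [zpow_natCast] at h'
  have hpow : ∀ a ∈ Subgroup.closure (Set.range tw), ∃ j : Fin 2, ∃ k : Fin 2,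
      a = u ^ (j : ℕ) * v ^ (k : ℕ) := by
    intro a ha
    have hle : Subgroup.closure (Set.range tw) ≤ Subgroup.zpowers u ⊔ Subgroup.zpowers v := by
      rw [Subgroup.closure_le]
      rintro _ ⟨t, rfl⟩
      have h := ltw_mem_sup (ζs ga gb gc A) exV eyV relV hR symCerts
        (by rw [ζs_length]; exact symCerts_ok) t
      rw [← htw_def, htu, htv] at h
      exact h
    obtain ⟨y, hy, z, hz, rfl⟩ := Subgroup.mem_sup.mp (hle ha)
    obtain ⟨i, rfl⟩ := Subgroup.mem_zpowers_iff.mp hy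
    obtain ⟨i', rfl⟩ := Subgroup.mem_zpowers_iff.mp hz
    obtain ⟨j, hj⟩ := zpow_fin u 2 (by norm_num) huX i
    obtain ⟨k, hk⟩ := zpow_fin v 2 (by norm_num) hvW i'
    exact ⟨j, k, by rw [hj, hk]⟩
  -- the group of twists
  set ZA : Subgroup A := Subgroup.closure {u, v} with hZA
  have huZ : u ∈ ZA := Subgroup.subset_closure (by simp)
  have hvZ : v ∈ ZA := Subgroup.subset_closure (by simp)
  -- crude counting: finiteness
  let f0 : Fin 28800 × (Fin 2 × Fin 2) → Q := fun p => (u ^ (p.2.1 : ℕ) * v ^ (p.2.2 : ℕ)) • c p.1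
  have hf0 : Function.Surjective f0 := by
    intro q
    obtain ⟨i, hi, α, hα, rfl⟩ := hcov q
    obtain ⟨j, k, rfl⟩ := hpow α hα
    exact ⟨(⟨i, hi⟩, (j, k)), rfl⟩
  have hfinQ : Finite Q := Finite.of_surjective f0 hf0
  have hfinZ : Finite ZA := by
    apply Finite.of_injective (fun α : ZA => (α : A) • q0)
    intro α β hαβ
    exact Subtype.ext (hfree _ _ q0 hαβ)
  -- sharp counting
  let f : Fin 28800 × ZA → Q := fun p => (p.2 : A) • c p.1
  have hf : Function.Surjective f := by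
    intro q
    obtain ⟨i, hi, α, hα, rfl⟩ := hcov q
    obtain ⟨j, k, rfl⟩ := hpow α hα
    exact ⟨(⟨i, hi⟩, ⟨_, mul_mem (pow_mem huZ _) (pow_mem hvZ _)⟩), rfl⟩
  have hcard := Nat.card_le_card_of_surjective f hf
  rw [Nat.card_prod, Nat.card_fin] at hcard
  -- transfer to `Γ`
  have hmap : (ZA.map A.subtype) = Subgroup.closure {(wv ga gb gc xW)⁻¹, (wv ga gb gc yW)⁻¹} := by
    rw [hZA, MonoidHom.map_closure]
    congr 1
    rw [Set.image_insert_eq, Set.image_singleton]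
    change ({(u : Γ), (v : Γ)} : Set Γ) = _
    rw [hucoe, hvcoe]
  have hcardZ : Nat.card (ZA.map A.subtype) = Nat.card ZA :=
    Subgroup.card_map_of_injective A.subtype_injective
  have hfinZΓ : Finite (ZA.map A.subtype) :=
    Nat.finite_of_card_ne_zero (by rw [hcardZ]; exact Nat.card_pos.ne')
  rw [← hmap]
  refine ⟨A.inv_mem hxmem, A.inv_mem hymem, ?_, ?_, hfinQ, hfinZΓ, ?_⟩
  · rw [← hucoe, ← Subgroup.coe_pow, huX]; rfl
  · rw [← hvcoe, ← Subgroup.coe_pow, hvW]; rfl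
  · rw [hcardZ]; exact hcard

end final

end Cfsg.Agent.Lib.H29.O8M
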