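import Cfsg.Agent.Lib.H29.O8M.ModelHomLib
import Cfsg.Agent.Lib.H29.O8M.Model1
import Cfsg.Agent.Lib.H29.O8M.Model2

set_option autoImplicit false

/-!
# Two models of the presented group `P` on the 240 roots of `E₈` (helper29)

The two double covers of `Ω₈⁺(2)` inside `W(E₈)'` obtained from the two half-spin modules (the images of the natural module
under the triality automorphisms): in the first `X` acts as `-1` and `W` trivially, in the second `X` acts trivially and `W`
as `-1`.
-/

namespace Cfsg.Agent.Lib.H29.O8M

open Equiv Cfsg.Agent.Lib.H27.PermN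
open Cfsg.Agent.Lib.H6.U43M (gl wv s1L)

/-- the first model -/
noncomputable def model1 : P →* Perm (Fin 240) :=
  modelHom Model1.D rfl Model1.exact_chk Model1.cen_chk Model1.comm_chk

/-- the second model -/
noncomputable def model2 : P →* Perm (Fin 240) :=
  modelHom Model2.D rfl Model2.exact_chk Model2.cen_chk Model2.comm_chk

theorem model1_X : model1 (wv pa pb pc xW)⁻¹ = nuP Model1.D ^ 1 :=
  modelHom_nu Model1.D rfl Model1.exact_chk Model1.cen_chk Model1.comm_chk xW Model1.x_chk

theorem model1_W : model1 (wv pa pb pc yW)⁻¹ = nuP Model1.D ^ 0 :=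
  modelHom_one Model1.D rfl Model1.exact_chk Model1.cen_chk Model1.comm_chk yW Model1.y_chk

theorem model2_X : model2 (wv pa pb pc xW)⁻¹ = nuP Model2.D ^ 0 :=
  modelHom_one Model2.D rfl Model2.exact_chk Model2.cen_chk Model2.comm_chk xW Model2.x_chk

theorem model2_W : model2 (wv pa pb pc yW)⁻¹ = nuP Model2.D ^ 1 :=
  modelHom_nu Model2.D rfl Model2.exact_chk Model2.cen_chk Model2.comm_chk yW Model2.y_chk

/-- the two models separate the elements `X ^ i * W ^ k` -/
theorem models_sep (i k : ℕ) (h : ((wv pa pb pc xW)⁻¹ : P) ^ i * ((wv pa pb pc yW)⁻¹) ^ k = 1) :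
    Even i ∧ Even k := by
  constructor
  · have h1 := congrArg model1 h
    rw [_root_.map_mul, _root_.map_pow, _root_.map_pow, model1_X, model1_W, pow_zero, one_pow, mul_one, pow_one,
      _root_.map_one] at h1
    exact nu_pow_eq_one Model1.D rfl Model1.nu_chk i h1
  · have h2 := congrArg model2 h
    rw [_root_.map_mul, _root_.map_pow, _root_.map_pow, model2_X, model2_W, pow_zero, one_pow, one_mul, pow_one,
      _root_.map_one] at h2
    exact nu_pow_eq_one Model2.D rfl Model2.nu_chk k h2

end Cfsg.Agent.Lib.H29.O8M
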