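import Cfsg.Agent.Lib.H29.O8M.Stem
import Cfsg.Agent.Lib.H29.O8M.ModelHom
import Cfsg.Agent.Lib.H8.O8HOM

set_option autoImplicit false

/-!
# The Schur multiplier of a group with the `Ω₈⁺(2)` data is `2 × 2` (helper29)

(The pattern is helper6's `Lib/H6/U43M/Main.lean`, after helper17's `Lib/H17/L34M/Main2.lean`; the homomorphism from the
four-group is helper8's `Lib/H8/O8HOM.lean`.)
-/

namespace Cfsg.Agent.Lib.H29.O8M

open Subgroup
open Cfsg.Agent.Lib.H8.O8M (T22 exists_hom_T22)
open Cfsg.Agent.Lib.H6.U43M (gl wv wv_eq_wv2 s1L s1L_lt card_closure_le inj_on_closure)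

theorem sep_T22 : ∀ t : ZMod 2 × ZMod 2, (Even t.1.val ∧ Even t.2.val) → t = 0 := by
  decide

variable {G : Type} [Group G] {am bm cm : G}

theorem Base.exactP (B : Base am bm cm) : ∀ w ∈ Cert.exactL ++ s1L, wv am bm cm w = 1 := by
  intro w hw
  rcases List.mem_append.1 hw with h | h
  · exact B.exact2 w h
  · rw [wv_eq_wv2 am bm cm w (s1L_lt w h)]
    exact B.rel1 w h

/-- the covering homomorphism -/
noncomputable def Base.cover (B : Base am bm cm) : P →* G :=
  homP am bm cm B.exactP (fun w hw i => by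
    rw [B.rel2 w (List.mem_append_right _ hw), one_mul, mul_one])

theorem Base.cover_wv (B : Base am bm cm) (w : List ℕ) : B.cover (wv pa pb pc w) = wv am bm cm w :=
  homP_wv _ _ _ _ _ w

theorem Base.cover_surjective (B : Base am bm cm) : Function.Surjective B.cover := by
  rw [← MonoidHom.range_eq_top, eq_top_iff, ← B.gen, closure_le]
  intro g hg
  simp only [Set.mem_insert_iff, Set.mem_singleton_iff] at hg
  rcases hg with rfl | rfl | rfl
  · exact ⟨pa, homP_pa _ _ _ _ _⟩
  · exact ⟨pb, homP_pb _ _ _ _ _⟩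
  · exact ⟨pc, homP_pc _ _ _ _ _⟩

theorem P_s1 : ∀ w ∈ s1L, Cfsg.Agent.Lib.H6.U33M.wv pa pb w = 1 := by
  intro w hw
  rw [← wv_eq_wv2 pa pb pc w (s1L_lt w hw)]
  exact P_exact w (List.mem_append_right _ hw)

theorem Base.main (B : Base am bm cm) : Cfsg.HasSchurMultiplier G T22 := by
  constructor
  · -- existence: the presented group
    have hs := B.cover_surjective
    have hfinG := B.finite
    have hcen : ∀ w ∈ Cert.symL ++ Cert.cenL, wv pa pb pc w ∈ B.cover.ker ⊓ center P := by
      intro w hw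
      have h1 : wv pa pb pc w ∈ B.cover.ker := by
        rw [MonoidHom.mem_ker, B.cover_wv]
        exact B.rel2 w (List.mem_append_right _ hw)
      exact ⟨h1, P_central w hw⟩
    obtain ⟨hKfin, hK⟩ := card_closure_le pa pb (⊥ : Subgroup P) bot_le
      (fun x _ hx => Subgroup.mem_bot.1 hx)
      (fun w hw => P_s1 w (List.mem_append_left _ hw))
      (fun w hw => by rw [P_s1 w (List.mem_append_right _ hw)]; exact one_mem _)
    have hca : B.cover pa = am := homP_pa _ _ _ _ _
    have hcb : B.cover pb = bm := homP_pb _ _ _ _ _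
    have hinj := inj_on_closure B.cover pa pb hKfin hK (by rw [hca, hcb]; exact B.card_U)
    have hex2 : ∀ w ∈ Cert.exactL, wv pa pb pc w = 1 :=
      fun w hw => P_exact w (List.mem_append_left _ hw)
    obtain ⟨hfin, hX2, hW2, hker, hkc⟩ := core B.cover hs B.card pa pb pc hKfin hK hinj hex2 hcen P_gen
    have hperf : commutator P = ⊤ := by
      obtain ⟨h1, h2, h3'⟩ := mem_commutator_of_exact pa pb pc
        (fun w hw => P_s1 w (List.mem_append_left _ hw)) hex2
      rw [eq_top_iff, ← P_gen, closure_le]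
      intro g hg
      simp only [Set.mem_insert_iff, Set.mem_singleton_iff] at hg
      rcases hg with rfl | rfl | rfl
      · exact h1
      · exact h2
      · exact h3'
    refine ⟨P, inferInstance, hfin, B.cover, ⟨hs, hkc, by rw [hperf]; exact le_top⟩, ?_⟩
    have hXc : (wv pa pb pc xW)⁻¹ ∈ center P := inv_mem (P_central xW xW_mem)
    have hcomm : Commute ((wv pa pb pc xW)⁻¹ : P) (wv pa pb pc yW)⁻¹ :=
      ((mem_center_iff.1 hXc) _).symm
    obtain ⟨f, hf, hform⟩ := exists_hom_T22 _ _ hcomm hX2 hW2 B.cover.ker hker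
    have hinjf : Function.Injective f := by
      rw [injective_iff_map_eq_one]
      intro t ht
      have h1 : ((f t : ↥B.cover.ker) : P) = 1 := by rw [ht]; rfl
      rw [hform t] at h1
      have hsep := models_sep _ _ h1
      exact sep_T22 (Multiplicative.toAdd t) hsep
    exact ⟨(MulEquiv.ofBijective f ⟨hinjf, hf⟩).symm⟩
  · -- universality
    intro Γ _ _ σ hσ
    obtain ⟨X, W, hX2, hW2, hker, hkc⟩ := B.stem σ hσ
    have hXk : X ∈ σ.ker := by rw [hker]; exact subset_closure (by simp)
    have hcomm : Commute X W := ((mem_center_iff.1 (hkc hXk)) W).symm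
    obtain ⟨f, hf, -⟩ := exists_hom_T22 X W hcomm hX2 hW2 σ.ker hker
    exact ⟨f, hf⟩

end Cfsg.Agent.Lib.H29.O8M
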