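import Cfsg.Agent.Lib.H27.PermN
import Cfsg.Agent.Lib.H6.U43M.Glue

set_option autoImplicit false

/-!
# Words in three permutations of 240 points with a central involution (helper29)

A model of a central extension of `Ω₈⁺(2)` inside `W(E₈)` acting on the 240 roots: helper27's packed table (`Lib/H27/PermN.lean`)
with seven letters `a a⁻¹ b b⁻¹ c c⁻¹ ν` (`ν` = multiplication by `-1`); the value of a word in the six letters of helper6's
`Lib/H6/U43M/Glue.lean` is computed point by point; a word is trivial if it fixes all points and equal to `ν` if it agrees with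
`ν` on all points.
-/

namespace Cfsg.Agent.Lib.H29.O8M

open Equiv Cfsg.Agent.Lib.H27.LatW Cfsg.Agent.Lib.H27.PermN
open Cfsg.Agent.Lib.H6.U43M (gl wv)

/-- the action of a word on a point, by table lookups -/
def actP (GT : ℕ) (w : List ℕ) (p : ℕ) : ℕ := w.foldr (fun s acc => lk GT s acc) p

/-- the word fixes all points -/
def chkOne (GT : ℕ) (w : List ℕ) : Bool :=
  w.all (fun x => Nat.blt x 6) && allLt 240 fun p => Nat.beq (actP GT w p) p

/-- the word agrees with the seventh letter on all points -/
def chkNu (GT : ℕ) (w : List ℕ) : Bool :=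
  w.all (fun x => Nat.blt x 6) && allLt 240 fun p => Nat.beq (actP GT w p) (lk GT 6 p)

/-- the word is trivial or the seventh letter; the second component tells which -/
def chkCen (GT : ℕ) (w : List ℕ) : Bool := chkOne GT w || chkNu GT w

/-- the seventh letter commutes with the other letters -/
def chkComm (GT : ℕ) : Bool :=
  allLt 6 fun s => allLt 240 fun p => Nat.beq (lk GT 6 (lk GT s p)) (lk GT s (lk GT 6 p))

/-- the inverse letters -/
def linv7 : List ℕ := [1, 0, 3, 2, 5, 4, 6]

section

variable (D : PD 240 7 7) (hl : D.linv = linv7)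

/-- the three generators -/
def aP : Perm (Fin 240) := D.bp 0
/-- the three generators -/
def bP : Perm (Fin 240) := D.bp 2
/-- the three generators -/
def cP : Perm (Fin 240) := D.bp 4
/-- the central involution -/
def nuP : Perm (Fin 240) := D.bp 6

include hl in
theorem gl_perm (x : ℕ) (hx : x < 6) : gl (aP D) (bP D) (cP D) x = D.bp x := by
  have h0 := D.bp_linv (by norm_num : 0 < 7)
  have h2 := D.bp_linv (by norm_num : 2 < 7)
  have h4 := D.bp_linv (by norm_num : 4 < 7)
  rw [hl] at h0 h2 h4
  interval_cases x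
  · rfl
  · exact h0.symm
  · rfl
  · exact h2.symm
  · rfl
  · exact h4.symm

include hl in
theorem wv_apply (w : List ℕ) (hw : ∀ x ∈ w, x < 6) (p : Fin 240) :
    ((wv (aP D) (bP D) (cP D) w p : Fin 240) : ℕ) = actP D.GT w p := by
  induction w with
  | nil => rfl
  | cons x w ih =>
    have hx := hw x List.mem_cons_self
    have e : wv (aP D) (bP D) (cP D) (x :: w) = gl (aP D) (bP D) (cP D) x * wv (aP D) (bP D) (cP D) w := by
      unfold wv
      rw [List.map_cons, List.prod_cons]
    rw [e, Perm.mul_apply, gl_perm D hl x hx, D.bp_apply (by omega : x < 7),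
      ih (fun y hy => hw y (List.mem_cons_of_mem _ hy))]
    rfl

theorem letters_of_all' (w : List ℕ) (h : w.all (fun x => Nat.blt x 6) = true) : ∀ x ∈ w, x < 6 :=
  fun x hx => Nat.le_of_ble_eq_true (List.all_eq_true.1 h x hx)

include hl in
theorem wv_eq_one_of_chkOne (w : List ℕ) (h : chkOne D.GT w = true) :
    wv (aP D) (bP D) (cP D) w = 1 := by
  unfold chkOne at h
  rw [Bool.and_eq_true] at h
  ext p
  rw [wv_apply D hl w (letters_of_all' w h.1) p]
  exact Nat.eq_of_beq_eq_true (allLt_spec h.2 p p.2)

include hl in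
theorem wv_eq_nu_of_chkNu (w : List ℕ) (h : chkNu D.GT w = true) :
    wv (aP D) (bP D) (cP D) w = nuP D := by
  unfold chkNu at h
  rw [Bool.and_eq_true] at h
  ext p
  rw [wv_apply D hl w (letters_of_all' w h.1) p]
  unfold nuP
  rw [D.bp_apply (by norm_num : 6 < 7)]
  exact Nat.eq_of_beq_eq_true (allLt_spec h.2 p p.2)

include hl in
theorem nu_sq : nuP D * nuP D = 1 := by
  have h6 := D.bp_linv (by norm_num : 6 < 7)
  rw [hl] at h6
  have h6' : D.bp 6 = (D.bp 6)⁻¹ := h6
  unfold nuP
  nth_rewrite 1 [h6']
  exact inv_mul_cancel _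

theorem nu_comm (hc : chkComm D.GT = true) (x : ℕ) (hx : x < 6) : nuP D * D.bp x = D.bp x * nuP D := by
  ext p
  unfold nuP
  rw [Perm.mul_apply, Perm.mul_apply, D.bp_apply (by norm_num : 6 < 7), D.bp_apply (by omega : x < 7),
    D.bp_apply (by omega : x < 7), D.bp_apply (by norm_num : 6 < 7)]
  exact Nat.eq_of_beq_eq_true (allLt_spec (allLt_spec hc x hx) p p.2)

theorem nu_ne_one (h : Nat.beq (lk D.GT 6 0) 0 = false) : nuP D ≠ 1 := by
  intro h1
  have h2 := congrArg (fun σ : Perm (Fin 240) => ((σ 0 : Fin 240) : ℕ)) h1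
  simp only [nuP] at h2
  rw [D.bp_apply (by norm_num : 6 < 7)] at h2
  change lk D.GT 6 0 = 0 at h2
  rw [h2] at h
  exact absurd h (by decide)

include hl in
/-- a central word commutes with the three generators -/
theorem wv_comm_of_chkCen (hc : chkComm D.GT = true) (w : List ℕ) (h : chkCen D.GT w = true) (i : Fin 3) :
    wv (aP D) (bP D) (cP D) w * ![aP D, bP D, cP D] i = ![aP D, bP D, cP D] i * wv (aP D) (bP D) (cP D) w := by
  unfold chkCen at h
  rw [Bool.or_eq_true] at h
  rcases h with h | h
  · rw [wv_eq_one_of_chkOne D hl w h, one_mul, mul_one]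
  · rw [wv_eq_nu_of_chkNu D hl w h]
    fin_cases i
    · exact nu_comm D hc 0 (by norm_num)
    · exact nu_comm D hc 2 (by norm_num)
    · exact nu_comm D hc 4 (by norm_num)

end

end Cfsg.Agent.Lib.H29.O8M
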