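import Cfsg.Agent.Lib.H29.O8M.Pres
import Cfsg.Agent.Lib.H29.O8M.PermModel

set_option autoImplicit false

/-!
# Permutation models of the presented group `P` on the 240 roots of `E₈` (helper29)

Given a table of seven letters on 240 points in which the exact relators of `P` are trivial and the central relators are
trivial or equal to the seventh letter `ν` (which commutes with the other letters), there is a homomorphism from `P` to the
permutations of the 240 points.
-/

namespace Cfsg.Agent.Lib.H29.O8M

open Equiv Cfsg.Agent.Lib.H27.PermN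
open Cfsg.Agent.Lib.H6.U43M (gl wv s1L)

section generic

variable (D : PD 240 7 7) (hl : D.linv = linv7)
  (hex : (Cert.exactL ++ s1L).all (chkOne D.GT) = true)
  (hcen : (Cert.symL ++ Cert.cenL).all (chkCen D.GT) = true)
  (hc : chkComm D.GT = true)

/-- the model homomorphism -/
noncomputable def modelHom : P →* Perm (Fin 240) :=
  homP (aP D) (bP D) (cP D)
    (fun w hw => wv_eq_one_of_chkOne D hl w (List.all_eq_true.1 hex w hw))
    (fun w hw i => wv_comm_of_chkCen D hl hc w (List.all_eq_true.1 hcen w hw) i)

theorem modelHom_one (w : List ℕ) (h : chkOne D.GT w = true) :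
    modelHom D hl hex hcen hc (wv pa pb pc w)⁻¹ = nuP D ^ 0 := by
  unfold modelHom
  rw [map_inv, homP_wv, wv_eq_one_of_chkOne D hl w h, inv_one, pow_zero]

theorem modelHom_nu (w : List ℕ) (h : chkNu D.GT w = true) :
    modelHom D hl hex hcen hc (wv pa pb pc w)⁻¹ = nuP D ^ 1 := by
  unfold modelHom
  rw [map_inv, homP_wv, wv_eq_nu_of_chkNu D hl w h, pow_one]
  exact inv_eq_of_mul_eq_one_left (nu_sq D hl)

include hl in
theorem nu_pow_eq_one (h0 : Nat.beq (lk D.GT 6 0) 0 = false) (n : ℕ) (h : nuP D ^ n = 1) : Even n := by
  rcases Nat.even_or_odd n with he | ⟨k, rfl⟩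
  · exact he
  · exfalso
    rw [pow_succ, pow_mul, pow_two, nu_sq D hl, one_pow, one_mul] at h
    exact nu_ne_one D h0 h

end generic

end Cfsg.Agent.Lib.H29.O8M
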